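import Cfsg.Agent.Mrg.Omega.NO3S.MFive.Basic
import Cfsg.Agent.Mrg.Omega.NSix.CaseJ.Exact
import Cfsg.Agent.Mrg.Omega.NO3S.TwoA.Off

section


/-!
# LightL, `n = 5`: members of `A(O₂(C_G(z_a z_b, z_c z_d)))` acting as `⟨(a b)⟩` (helper411 #25060 (A), helper433 #26100 (0))

* `Lt` : the letters;
* `mem` : if some `A ∈ A(O₂(C_G(z_1 z_2, z_3 z_4)))` moves `V`, then for all distinct `a b c d` there is
  `A' ∈ A(O₂(C_G(z_a z_b, z_c z_d)))` acting on `V` as `⟨(a b)⟩`.
-/

set_option autoImplicit false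
set_option linter.unusedSectionVars false

namespace Cfsg.Agent.Omega.NO3S.TwoA

open Subgroup Cfsg Cfsg.Agent.PLocal.ThompsonJ Cfsg.Agent.ZN Cfsg.Agent.ZN.ChoiceBase
open Cfsg.Agent.ZN.ChoiceSit Cfsg.Agent.PLocal.ElemAbSup
open Cfsg.Agent.Omega.SQ1.Bau (mem_AA_of_comm elem_comm elem_sq mem_sup_comm card_sup_comm)
open Cfsg.Agent.Omega.NSix.CaseJ.Exact (two_mul_card_le card_le_two sup_elem)
open Cfsg.Agent.Omega.NO3S.MFive (perm_four)

universe u

variable {G : Type u} [Group G]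

/-- `C_G(z_a z_b, z_c z_d)` -/
def Dd (z : Fin 5 → G) (a b c d : Fin 5) : Subgroup G := centralizer {z a * z b, z c * z d}

theorem Dd_symm (z : Fin 5 → G) (a b c d : Fin 5) : Dd z a b c d = Dd z c d a b := by
  unfold Dd
  rw [Set.pair_comm]

/-- the letters -/
structure Lt (z : Fin 5 → G) (L : Subgroup G) : Prop where
  sq : ∀ a, z a * z a = 1
  comm : ∀ a b, z a * z b = z b * z a
  prod : z 0 = z 1 * z 2 * z 3 * z 4
  inj : Function.Injective z
  ne1 : ∀ a, z a ≠ 1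
  act : ∀ g ∈ L, ∃ σ : Equiv.Perm (Fin 5), ∀ a, g * z a * g⁻¹ = z (σ a)
  full : ∀ σ : Equiv.Perm (Fin 5), ∃ g ∈ L, ∀ a, g * z a * g⁻¹ = z (σ a)
  VO : ∀ a, z a ∈ o2 (Dd z 1 2 3 4)
  OL : o2 (Dd z 1 2 3 4) ≤ L

namespace Lt

variable {z : Fin 5 → G} {L : Subgroup G} (h : Lt z L)
include h

/-- `z_i z_j = z_p z_q`: `i ∈ {p, q}`. -/
theorem pair {i j p q : Fin 5} (hij : i ≠ j) (hpq : p ≠ q) (e : z i * z j = z p * z q) : i = p ∨ i = q := by
  by_contra hcon
  push Not at hcon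
  obtain ⟨hip, hiq⟩ := hcon
  by_cases hjp : j = p
  · subst hjp
    rw [h.comm i j] at e
    exact hiq (h.inj (mul_left_cancel e))
  by_cases hjq : j = q
  · subst hjq
    exact hip (h.inj (mul_right_cancel e))
  obtain ⟨σ, h0, h1, h2, h3⟩ : ∃ σ : Equiv.Perm (Fin 5), σ 0 = i ∧ σ 1 = j ∧ σ 2 = p ∧ σ 3 = q := by
    have key : ∀ i j p q : Fin 5, i ≠ j → p ≠ q → i ≠ p → i ≠ q → j ≠ p → j ≠ q →
        ∃ k : Fin 5, Function.Bijective ![i, j, p, q, k] := by decide
    obtain ⟨k, hk⟩ := key i j p q hij hpq hip hiq hjp hjq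
    exact ⟨Equiv.ofBijective _ hk, rfl, rfl, rfl, rfl⟩
  have hVc : closure (Set.range z) ≤ centralizer (closure (Set.range z) : Set G) := by
    rw [closure_le]
    rintro _ ⟨a, rfl⟩
    rw [SetLike.mem_coe, centralizer_closure, mem_centralizer_iff]
    rintro _ ⟨b, rfl⟩
    exact h.comm b a
  let _ : CommGroup (closure (Set.range z)) := { (inferInstance : Group (closure (Set.range z))) with
    mul_comm := fun a b => Subtype.ext (mem_centralizer_iff.1 (hVc b.2) a a.2) }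
  let w : Fin 5 → closure (Set.range z) := fun a => ⟨z a, subset_closure ⟨a, rfl⟩⟩
  have hw : ∏ a, w a = 1 := by
    rw [Fin.prod_univ_five]
    apply Subtype.ext
    change z 0 * z 1 * z 2 * z 3 * z 4 = 1
    rw [mul_assoc (z 0), mul_assoc (z 0), mul_assoc (z 0), ← h.prod]
    exact h.sq 0
  have hw2 := Equiv.prod_comp σ w
  rw [hw, Fin.prod_univ_five, h0, h1, h2, h3] at hw2
  have h4 := congrArg (Subtype.val) hw2
  change z i * z j * z p * z q * z (σ 4) = 1 at h4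
  rw [mul_assoc (z i * z j), ← e] at h4
  have h5 : z i * z j * (z i * z j) = 1 := by
    calc z i * z j * (z i * z j) = z i * (z j * z i) * z j := by group
      _ = z i * (z i * z j) * z j := by rw [h.comm i j]
      _ = (z i * z i) * (z j * z j) := by group
      _ = 1 := by rw [h.sq, h.sq, one_mul]
  rw [h5, one_mul] at h4
  exact h.ne1 _ h4

theorem pair_perm {g : G} {σ : Equiv.Perm (Fin 5)} (hσ : ∀ a, g * z a * g⁻¹ = z (σ a)) {a b : Fin 5} (hab : a ≠ b)
    (hg : g * (z a * z b) = z a * z b * g) : σ a = a ∨ σ a = b := by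
  refine h.pair (i := σ a) (j := σ b) (fun e => hab (σ.injective e)) hab ?_
  rw [← hσ a, ← hσ b]
  calc g * z a * g⁻¹ * (g * z b * g⁻¹) = g * (z a * z b) * g⁻¹ := by group
    _ = z a * z b := by rw [hg, mul_inv_cancel_right]

theorem inv (a : Fin 5) : (z a)⁻¹ = z a := inv_eq_of_mul_eq_one_left (h.sq a)

/-- the action of an element of `O₂(C_G(z_1 z_2, z_3 z_4))` -/
theorem two {g : G} (hg : g ∈ Dd z 1 2 3 4) (hL : g ∈ L) : ∃ σ : Equiv.Perm (Fin 5), (∀ a, g * z a * g⁻¹ = z (σ a)) ∧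
    σ 0 = 0 ∧ ((σ 1 = 1 ∧ σ 2 = 2) ∨ (σ 1 = 2 ∧ σ 2 = 1)) ∧ ((σ 3 = 3 ∧ σ 4 = 4) ∨ (σ 3 = 4 ∧ σ 4 = 3)) := by
  obtain ⟨σ, hσ⟩ := h.act g hL
  have e1 : g * (z 1 * z 2) = z 1 * z 2 * g := (mem_centralizer_iff.1 hg _ (by simp)).symm
  have e2 : g * (z 3 * z 4) = z 3 * z 4 * g := (mem_centralizer_iff.1 hg _ (by simp)).symm
  have e1' : g * (z 2 * z 1) = z 2 * z 1 * g := by rw [h.comm 2 1]; exact e1
  have e2' : g * (z 4 * z 3) = z 4 * z 3 * g := by rw [h.comm 4 3]; exact e2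
  have p1 := h.pair_perm hσ (by decide) e1
  have p2 := h.pair_perm hσ (by decide) e1'
  have p3 := h.pair_perm hσ (by decide) e2
  have p4 := h.pair_perm hσ (by decide) e2'
  have i12 : σ 1 ≠ σ 2 := fun e => by simpa using σ.injective e
  have i34 : σ 3 ≠ σ 4 := fun e => by simpa using σ.injective e
  have q1 : (σ 1 = 1 ∧ σ 2 = 2) ∨ (σ 1 = 2 ∧ σ 2 = 1) := by
    rcases p1 with p | p <;> rcases p2 with q | q
    · exact Or.inl ⟨p, q⟩
    · exact absurd (p.trans q.symm) i12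
    · exact absurd (p.trans q.symm) i12
    · exact Or.inr ⟨p, q⟩
  have q2 : (σ 3 = 3 ∧ σ 4 = 4) ∨ (σ 3 = 4 ∧ σ 4 = 3) := by
    rcases p3 with p | p <;> rcases p4 with q | q
    · exact Or.inl ⟨p, q⟩
    · exact absurd (p.trans q.symm) i34
    · exact absurd (p.trans q.symm) i34
    · exact Or.inr ⟨p, q⟩
  refine ⟨σ, hσ, ?_, q1, q2⟩
  have n1 : σ 0 ≠ σ 1 := fun e => by simpa using σ.injective e
  have n2 : σ 0 ≠ σ 2 := fun e => by simpa using σ.injective e
  have n3 : σ 0 ≠ σ 3 := fun e => by simpa using σ.injective e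
  have n4 : σ 0 ≠ σ 4 := fun e => by simpa using σ.injective e
  generalize σ 0 = s at n1 n2 n3 n4 ⊢
  rcases q1 with ⟨a1, a2⟩ | ⟨a1, a2⟩ <;> rcases q2 with ⟨a3, a4⟩ | ⟨a3, a4⟩ <;>
    rw [a1] at n1 <;> rw [a2] at n2 <;> rw [a3] at n3 <;> rw [a4] at n4 <;> clear * - n1 n2 n3 n4 <;>
    revert n1 n2 n3 n4 <;> revert s <;> decide

/-- trivial action -/
theorem triv {g : G} {σ : Equiv.Perm (Fin 5)} (hσ : ∀ a, g * z a * g⁻¹ = z (σ a)) (h0 : σ 0 = 0) (h1 : σ 1 = 1)
    (h2 : σ 2 = 2) (h3 : σ 3 = 3) (h4 : σ 4 = 4) (i : Fin 5) : g * z i = z i * g := by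
  have e : σ i = i := by
    fin_cases i <;> assumption
  have h5 := hσ i
  rw [e] at h5
  rwa [mul_inv_eq_iff_eq_mul] at h5

theorem sw {g : G} {σ : Equiv.Perm (Fin 5)} (hσ : ∀ a, g * z a * g⁻¹ = z (σ a)) (h0 : σ 0 = 0) (h1 : σ 1 = 2)
    (h2 : σ 2 = 1) (h3 : σ 3 = 3) (h4 : σ 4 = 4) (i : Fin 5) : g * z i * g⁻¹ = z (Equiv.swap 1 2 i) := by
  rw [hσ]
  congr 1
  fin_cases i
  · exact h0
  · exact h1
  · exact h2
  · exact h3
  · exact h4

theorem sw' {g : G} {σ : Equiv.Perm (Fin 5)} (hσ : ∀ a, g * z a * g⁻¹ = z (σ a)) (h0 : σ 0 = 0) (h1 : σ 1 = 1)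
    (h2 : σ 2 = 2) (h3 : σ 3 = 4) (h4 : σ 4 = 3) (i : Fin 5) : g * z i * g⁻¹ = z (Equiv.swap 3 4 i) := by
  rw [hσ]
  congr 1
  fin_cases i
  · exact h0
  · exact h1
  · exact h2
  · exact h3
  · exact h4

variable [Finite G]

/-- The shape of the result. -/
def _root_.Cfsg.Agent.Omega.NO3S.TwoA.Sh (z : Fin 5 → G) (a b : Fin 5) (A : Subgroup G) : Prop :=
  (∀ g ∈ A, (∀ i, g * z i = z i * g) ∨ ∀ i, g * z i * g⁻¹ = z (Equiv.swap a b i)) ∧
    ∃ g ∈ A, ∀ i, g * z i * g⁻¹ = z (Equiv.swap a b i)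

/-- the case of an element of `A` acting as `(1 2)` -/
theorem base12 {A : Subgroup G} (hA : A ∈ AA (o2 (Dd z 1 2 3 4))) {g : G} (hg : g ∈ A)
    (hgs : ∀ i, g * z i * g⁻¹ = z (Equiv.swap 1 2 i)) : ∃ A' ∈ AA (o2 (Dd z 1 2 3 4)), Sh z 1 2 A' := by
  have hAD : A ≤ Dd z 1 2 3 4 := hA.2.1.trans (ChoiceSit.o2_le _)
  have hAL : A ≤ L := hA.2.1.trans h.OL
  set A3 := A ⊓ centralizer {z 3} with hA3
  set V12 := closure {z 0, z 3, z 4} with hV12
  have hVO : V12 ≤ o2 (Dd z 1 2 3 4) := by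
    rw [hV12, closure_le]
    rintro _ (rfl | rfl | rfl) <;> exact h.VO _
  have cV : ∀ a b : Fin 5, Commute (z a) (z b) := fun a b => h.comm a b
  have hel : IsElementaryAbelian 2 V12 := by
    rw [isElementaryAbelian_iff]
    have hle : V12 ≤ centralizer (V12 : Set G) := by
      rw [hV12, closure_le]
      rintro _ (rfl | rfl | rfl) <;>
      · rw [SetLike.mem_coe, centralizer_closure, mem_centralizer_iff]
        rintro _ (rfl | rfl | rfl) <;> exact cV _ _
    refine ⟨fun x hx y hy => mem_centralizer_iff.1 (hle hy) x hx, fun x hx => ?_⟩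
    let K : Subgroup G :=
      { carrier := {x | x ∈ V12 ∧ x ^ 2 = 1}
        one_mem' := ⟨one_mem _, one_pow 2⟩
        mul_mem' := by
          rintro x y ⟨hx, hx2⟩ ⟨hy, hy2⟩
          refine ⟨mul_mem hx hy, ?_⟩
          have hc : Commute x y := mem_centralizer_iff.1 (hle hy) x hx
          rw [hc.mul_pow, hx2, hy2, one_mul]
        inv_mem' := by
          rintro x ⟨hx, hx2⟩
          exact ⟨inv_mem hx, by rw [inv_pow, hx2, inv_one]⟩ }
    have hK : V12 ≤ K := by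
      rw [hV12, closure_le]
      rintro _ (rfl | rfl | rfl) <;>
        exact ⟨subset_closure (by simp), by rw [pow_two]; exact h.sq _⟩
    exact (hK hx).2
  -- the elements of `A3`
  have hA3s : ∀ b ∈ A3, (∀ i, b * z i = z i * b) ∨ ∀ i, b * z i * b⁻¹ = z (Equiv.swap 1 2 i) := by
    rintro b ⟨hb, hb3⟩
    obtain ⟨σ, hσ, h0, h12, h34⟩ := h.two (hAD hb) (hAL hb)
    have e3 : b * z 3 = z 3 * b := mem_centralizer_singleton_iff.1 hb3
    have h34' : σ 3 = 3 ∧ σ 4 = 4 := by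
      rcases h34 with h34 | ⟨h3, h4⟩
      · exact h34
      · exfalso
        have h5 := hσ 3
        rw [h3, e3, mul_inv_cancel_right] at h5
        exact absurd (h.inj h5) (by decide)
    rcases h12 with ⟨h1, h2⟩ | ⟨h1, h2⟩
    · left; exact h.triv hσ h0 h1 h2 h34'.1 h34'.2
    · right; exact h.sw hσ h0 h1 h2 h34'.1 h34'.2
  have hc : ∀ b ∈ A3, ∀ v ∈ V12, b * v = v * b := by
    intro b hb v hv
    have h1 : V12 ≤ centralizer ({b} : Set G) := by
      rw [hV12, closure_le]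
      have key : ∀ i : Fin 5, i ≠ 1 → i ≠ 2 → z i ∈ centralizer ({b} : Set G) := by
        intro i h1 h2
        rw [mem_centralizer_singleton_iff]
        rcases hA3s b hb with h3 | h3
        · exact (h3 i).symm
        · have h4 := h3 i
          rw [Equiv.swap_apply_of_ne_of_ne h1 h2, mul_inv_eq_iff_eq_mul] at h4
          exact h4.symm
      rintro _ (rfl | rfl | rfl) <;> exact key _ (by decide) (by decide)
    exact (mem_centralizer_singleton_iff.1 (h1 hv)).symm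
  have hA3el : IsElementaryAbelian 2 A3 := isElementaryAbelian_mono hA.1 inf_le_left
  have hsel : IsElementaryAbelian 2 (A3 ⊔ V12 : Subgroup G) := sup_elem hA3el hel hc
  have hsO : A3 ⊔ V12 ≤ o2 (Dd z 1 2 3 4) := sup_le (inf_le_left.trans hA.2.1) hVO
  have hcard : Nat.card A ≤ Nat.card ↥(A3 ⊔ V12 : Subgroup G) := by
    by_cases hle : A ≤ A3
    · exact Subgroup.card_le_of_le (hle.trans le_sup_left)
    · obtain ⟨c, hc1, hc2⟩ := SetLike.not_le_iff_exists.1 hle
      have r1 : Nat.card A ≤ 2 * Nat.card A3 := by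
        refine card_le_two (c := c) fun y hy hyC => mem_inf.2
          ⟨A.mul_mem (A.inv_mem hc1) hy, mem_centralizer_singleton_iff.2 ?_⟩
        have key : ∀ y ∈ A, y ∉ A3 → y * z 3 * y⁻¹ = z 4 := by
          intro y hy hyC
          obtain ⟨σ, hσ, h0, h12, h34⟩ := h.two (hAD hy) (hAL hy)
          rcases h34 with ⟨h3, h4⟩ | ⟨h3, h4⟩
          · exfalso
            apply hyC
            refine ⟨hy, mem_centralizer_singleton_iff.2 ?_⟩
            have h5 := hσ 3
            rw [h3, mul_inv_eq_iff_eq_mul] at h5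
            exact h5
          · rw [hσ, h3]
        have e1 := key y hy hyC
        have e2 := key c hc1 hc2
        have e3 : c⁻¹ * z 4 * c = z 3 := by rw [← e2]; group
        calc c⁻¹ * y * z 3 = c⁻¹ * (y * z 3 * y⁻¹) * y := by group
          _ = c⁻¹ * z 4 * c * (c⁻¹ * y) := by rw [e1]; group
          _ = z 3 * (c⁻¹ * y) := by rw [e3]
      have r2 : 2 * Nat.card ↥(A3 ⊓ V12) ≤ Nat.card V12 := by
        refine two_mul_card_le inf_le_right fun hle2 => hc2 ⟨hc1, mem_centralizer_singleton_iff.2 ?_⟩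
        have h3 : z 3 ∈ A := (hle2 (subset_closure (by simp) : z 3 ∈ V12)).1.1
        exact elem_comm hA.1 c hc1 _ h3
      have r3 := card_sup_comm hc
      have hp : 0 < Nat.card ↥(A3 ⊓ V12) := Nat.card_pos
      refine Nat.le_of_mul_le_mul_right ?_ hp
      rw [r3]
      calc Nat.card A * Nat.card ↥(A3 ⊓ V12) ≤ 2 * Nat.card A3 * Nat.card ↥(A3 ⊓ V12) := Nat.mul_le_mul_right _ r1
        _ = Nat.card A3 * (2 * Nat.card ↥(A3 ⊓ V12)) := by ring
        _ ≤ Nat.card A3 * Nat.card V12 := Nat.mul_le_mul_left _ r2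
  have hswap : ∀ v ∈ V12, ∀ i, v * z i = z i * v := by
    intro v hv i
    have h1 : V12 ≤ centralizer ({z i} : Set G) := by
      rw [hV12, closure_le]
      rintro _ (rfl | rfl | rfl) <;> exact mem_centralizer_singleton_iff.2 (h.comm _ _)
    exact mem_centralizer_singleton_iff.1 (h1 hv)
  refine ⟨A3 ⊔ V12, ⟨hsel, hsO, fun B hB hBO => (hA.2.2 B hB hBO).trans hcard⟩, fun y hy => ?_, g, ?_, hgs⟩
  · obtain ⟨b, hb, v, hv, rfl⟩ := mem_sup_comm hc hy
    have hvi := hswap v hv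
    rcases hA3s b hb with h1 | h1
    · left
      intro i
      have c1 : Commute b (z i) := h1 i
      have c2 : Commute v (z i) := hvi i
      exact (c1.mul_left c2).eq
    · right
      intro i
      rw [← h1 i]
      calc b * v * z i * (b * v)⁻¹ = b * (v * z i * v⁻¹) * b⁻¹ := by group
        _ = b * z i * b⁻¹ := by rw [hvi, mul_inv_cancel_right]
  · refine mem_sup_left ⟨hg, mem_centralizer_singleton_iff.2 ?_⟩
    have h1 := hgs 3
    rw [Equiv.swap_apply_of_ne_of_ne (by decide) (by decide), mul_inv_eq_iff_eq_mul] at h1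
    exact h1

omit [Finite G] in
theorem cj_Dd {g : G} {τ : Equiv.Perm (Fin 5)} (hτ : ∀ a, g * z a * g⁻¹ = z (τ a)) (a b c d : Fin 5) :
    cj g (Dd z a b c d) = Dd z (τ a) (τ b) (τ c) (τ d) := by
  have e : ∀ a b, g * (z a * z b) * g⁻¹ = z (τ a) * z (τ b) := fun a b => by
    rw [← hτ, ← hτ]; group
  ext x
  rw [mem_cj]
  simp only [Dd, mem_centralizer_iff, Set.mem_insert_iff, Set.mem_singleton_iff, forall_eq_or_imp, forall_eq]
  have key : ∀ p : G, (p * (g⁻¹ * x * g) = g⁻¹ * x * g * p) ↔ (g * p * g⁻¹ * x = x * (g * p * g⁻¹)) := by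
    intro p
    constructor
    · intro h1
      calc g * p * g⁻¹ * x = g * (p * (g⁻¹ * x * g)) * g⁻¹ := by group
        _ = g * (g⁻¹ * x * g * p) * g⁻¹ := by rw [h1]
        _ = x * (g * p * g⁻¹) := by group
    · intro h1
      calc p * (g⁻¹ * x * g) = g⁻¹ * (g * p * g⁻¹ * x) * g := by group
        _ = g⁻¹ * (x * (g * p * g⁻¹)) * g := by rw [h1]
        _ = g⁻¹ * x * g * p := by group
  rw [key, key, e, e]

theorem cj_mem {g : G} {τ : Equiv.Perm (Fin 5)} (hτ : ∀ a, g * z a * g⁻¹ = z (τ a)) {a b c d : Fin 5} {A : Subgroup G}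
    (hA : A ∈ AA (o2 (Dd z a b c d))) : cj g A ∈ AA (o2 (Dd z (τ a) (τ b) (τ c) (τ d))) := by
  have h1 := cj_mem_AA g hA
  rwa [← o2_cj, h.cj_Dd hτ] at h1

omit [Finite G] in
theorem cj_perm {g y : G} {τ ρ : Equiv.Perm (Fin 5)} (hτ : ∀ a, g * z a * g⁻¹ = z (τ a))
    (hρ : ∀ a, y * z a * y⁻¹ = z (ρ a)) (i : Fin 5) : (g * y * g⁻¹) * z i * (g * y * g⁻¹)⁻¹ = z ((τ * ρ * τ⁻¹) i) := by
  have e1 : g⁻¹ * z i * g = z (τ⁻¹ i) := by
    have := hτ (τ⁻¹ i)
    have e : τ (τ⁻¹ i) = i := by simp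
    rw [e] at this
    rw [← this]; group
  calc (g * y * g⁻¹) * z i * (g * y * g⁻¹)⁻¹ = g * (y * (g⁻¹ * z i * g) * y⁻¹) * g⁻¹ := by group
    _ = z (τ (ρ (τ⁻¹ i))) := by rw [e1, hρ, hτ]

omit [Finite G] in
theorem cj_sh {g : G} {τ : Equiv.Perm (Fin 5)} (hτ : ∀ a, g * z a * g⁻¹ = z (τ a)) {a b : Fin 5} {A : Subgroup G}
    (hA : Sh z a b A) : Sh z (τ a) (τ b) (cj g A) := by
  have key : ∀ y : G, (∀ i, y * z i * y⁻¹ = z (Equiv.swap a b i)) →
      ∀ i, (g * y * g⁻¹) * z i * (g * y * g⁻¹)⁻¹ = z (Equiv.swap (τ a) (τ b) i) := by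
    intro y hy i
    rw [h.cj_perm hτ hy, Equiv.swap_apply_apply]
  refine ⟨?_, ?_⟩
  · rintro _ ⟨y, hy, rfl⟩
    rcases hA.1 y hy with h1 | h1
    · left
      intro i
      have e1 : g⁻¹ * z i * g = z (τ⁻¹ i) := by
        have := hτ (τ⁻¹ i)
        have e : τ (τ⁻¹ i) = i := by simp
        rw [e] at this
        rw [← this]; group
      have h2 := h1 (τ⁻¹ i)
      rw [← e1] at h2
      change g * y * g⁻¹ * z i = z i * (g * y * g⁻¹)
      calc g * y * g⁻¹ * z i = g * (y * (g⁻¹ * z i * g)) * g⁻¹ := by group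
        _ = g * ((g⁻¹ * z i * g) * y) * g⁻¹ := by rw [h2]
        _ = z i * (g * y * g⁻¹) := by group
    · right
      exact key y h1
  · obtain ⟨y, hy, h1⟩ := hA.2
    exact ⟨g * y * g⁻¹, ⟨y, hy, rfl⟩, key y h1⟩

/-- the case of an element of `A` acting as `(3 4)` -/
theorem base34 {A : Subgroup G} (hA : A ∈ AA (o2 (Dd z 1 2 3 4))) {g : G} (hg : g ∈ A)
    (hgs : ∀ i, g * z i * g⁻¹ = z (Equiv.swap 3 4 i)) : ∃ A' ∈ AA (o2 (Dd z 1 2 3 4)), Sh z 1 2 A' := by
  obtain ⟨τ, t1, t2, t3, t4⟩ := perm_four (a := 1) (b := 2) (c := 3) (d := 4) (a' := 3) (b' := 4) (c' := 1) (d' := 2)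
    (by decide) (by decide) (by decide) (by decide) (by decide) (by decide) (by decide) (by decide) (by decide)
    (by decide) (by decide) (by decide)
  obtain ⟨k, -, hk⟩ := h.full τ
  have h1 := h.cj_mem hk hA
  rw [t1, t2, t3, t4, Dd_symm] at h1
  refine h.base12 h1 (g := k * g * k⁻¹) ⟨g, hg, rfl⟩ fun i => ?_
  rw [h.cj_perm hk hgs]
  have e : Equiv.swap (1 : Fin 5) 2 = Equiv.swap (τ 3) (τ 4) := by rw [t3, t4]
  rw [e, Equiv.swap_apply_apply]

/-- **The base.** -/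
theorem base {A : Subgroup G} (hA : A ∈ AA (o2 (Dd z 1 2 3 4))) (hm : ¬ A ≤ centralizer (Set.range z)) :
    ∃ A' ∈ AA (o2 (Dd z 1 2 3 4)), Sh z 1 2 A' := by
  have hAD : A ≤ Dd z 1 2 3 4 := hA.2.1.trans (ChoiceSit.o2_le _)
  have hAL : A ≤ L := hA.2.1.trans h.OL
  by_cases H1 : ∃ g ∈ A, ∀ i, g * z i * g⁻¹ = z (Equiv.swap 1 2 i)
  · obtain ⟨g, hg, hgs⟩ := H1
    exact h.base12 hA hg hgs
  by_cases H2 : ∃ g ∈ A, ∀ i, g * z i * g⁻¹ = z (Equiv.swap 3 4 i)
  · obtain ⟨g, hg, hgs⟩ := H2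
    exact h.base34 hA hg hgs
  exfalso
  push Not at H1 H2
  -- every element acts trivially or as `(1 2)(3 4)`
  have key : ∀ b ∈ A, (∀ i, b * z i = z i * b) ∨ (b * z 1 * b⁻¹ = z 2 ∧ b * z 2 * b⁻¹ = z 1 ∧ b * z 3 * b⁻¹ = z 4 ∧
      b * z 4 * b⁻¹ = z 3) := by
    intro b hb
    obtain ⟨σ, hσ, h0, ⟨h1, h2⟩ | ⟨h1, h2⟩, ⟨h3, h4⟩ | ⟨h3, h4⟩⟩ := h.two (hAD hb) (hAL hb)
    · exact Or.inl (h.triv hσ h0 h1 h2 h3 h4)
    · obtain ⟨i, hi⟩ := H2 b hb
      exact absurd (h.sw' hσ h0 h1 h2 h3 h4 i) hi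
    · obtain ⟨i, hi⟩ := H1 b hb
      exact absurd (h.sw hσ h0 h1 h2 h3 h4 i) hi
    · right
      exact ⟨by rw [hσ, h1], by rw [hσ, h2], by rw [hσ, h3], by rw [hσ, h4]⟩
  obtain ⟨c, hc1, hc2⟩ := SetLike.not_le_iff_exists.1 hm
  have hc2' : ¬ ∀ i, c * z i = z i * c := fun h0 => hc2 (mem_centralizer_iff.2 (by
    rintro _ ⟨i, rfl⟩
    exact (h0 i).symm))
  obtain ⟨d1, d2, d3, d4⟩ := (key c hc1).resolve_left hc2'
  set V := closure (Set.range z) with hV
  have hVO : V ≤ o2 (Dd z 1 2 3 4) := by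
    rw [hV, closure_le]
    rintro _ ⟨i, rfl⟩
    exact h.VO i
  have hVc : V ≤ centralizer (V : Set G) := by
    rw [hV, closure_le]
    rintro _ ⟨a, rfl⟩
    rw [SetLike.mem_coe, centralizer_closure, mem_centralizer_iff]
    rintro _ ⟨b, rfl⟩
    exact h.comm b a
  have hVel : IsElementaryAbelian 2 V := by
    rw [isElementaryAbelian_iff]
    refine ⟨fun x hx y hy => mem_centralizer_iff.1 (hVc hy) x hx, fun x hx => ?_⟩
    let K : Subgroup G :=
      { carrier := {x | x ∈ V ∧ x ^ 2 = 1}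
        one_mem' := ⟨one_mem _, one_pow 2⟩
        mul_mem' := by
          rintro x y ⟨hx, hx2⟩ ⟨hy, hy2⟩
          refine ⟨mul_mem hx hy, ?_⟩
          have hc : Commute x y := mem_centralizer_iff.1 (hVc hy) x hx
          rw [hc.mul_pow, hx2, hy2, one_mul]
        inv_mem' := by
          rintro x ⟨hx, hx2⟩
          exact ⟨inv_mem hx, by rw [inv_pow, hx2, inv_one]⟩ }
    have hK : V ≤ K := by
      rw [hV, closure_le]
      rintro _ ⟨i, rfl⟩
      exact ⟨subset_closure ⟨i, rfl⟩, by rw [pow_two]; exact h.sq _⟩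
    exact (hK hx).2
  set A0 := A ⊓ centralizer (Set.range z) with hA0
  have hc : ∀ b ∈ A0, ∀ v ∈ V, b * v = v * b := by
    intro b hb v hv
    have h1 : V ≤ centralizer ({b} : Set G) := by
      rw [hV, closure_le]
      rintro _ ⟨i, rfl⟩
      exact mem_centralizer_singleton_iff.2 (mem_centralizer_iff.1 hb.2 _ ⟨i, rfl⟩)
    exact (mem_centralizer_singleton_iff.1 (h1 hv)).symm
  have r1 : Nat.card A ≤ 2 * Nat.card A0 := by
    refine card_le_two (c := c) fun y hy hyC => mem_inf.2 ⟨A.mul_mem (A.inv_mem hc1) hy, mem_centralizer_iff.2 ?_⟩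
    have hy' : ¬ ∀ i, y * z i = z i * y := fun h0 => hyC ⟨hy, mem_centralizer_iff.2 (by
      rintro _ ⟨i, rfl⟩
      exact (h0 i).symm)⟩
    obtain ⟨e1, e2, e3, e4⟩ := (key y hy).resolve_left hy'
    rcases key (c⁻¹ * y) (A.mul_mem (A.inv_mem hc1) hy) with h5 | ⟨h5, -⟩
    · rintro _ ⟨i, rfl⟩
      exact (h5 i).symm
    · exfalso
      have h6 : c⁻¹ * y * z 1 * (c⁻¹ * y)⁻¹ = z 1 := by
        calc c⁻¹ * y * z 1 * (c⁻¹ * y)⁻¹ = c⁻¹ * (y * z 1 * y⁻¹) * c := by group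
          _ = c⁻¹ * (c * z 1 * c⁻¹) * c := by rw [e1, d1]
          _ = z 1 := by group
      exact absurd (h.inj (h6.symm.trans h5)) (by decide)
  -- `4 |A₀ ∩ V| ≤ |V|`
  set X := A0 ⊓ V with hX
  have hXc : ∀ x ∈ X, c * x = x * c := fun x hx => elem_comm hA.1 c hc1 x hx.1.1
  have r2 : 2 * Nat.card X ≤ Nat.card ↥(X ⊔ zpowers (z 1)) := by
    refine two_mul_card_le le_sup_left fun hle => ?_
    have h3 := hXc _ (hle (mem_sup_right (mem_zpowers _)))
    rw [← mul_inv_eq_iff_eq_mul, d1] at h3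
    exact absurd (h.inj h3) (by decide)
  have hXz : ∀ x ∈ X, ∀ y ∈ zpowers (z 1), x * y = y * x := by
    rintro x hx y ⟨k, rfl⟩
    have h1 : Commute x (z 1) := hc x hx.1 (z 1) (subset_closure ⟨1, rfl⟩)
    exact (h1.zpow_right k).eq
  have r3 : 2 * Nat.card ↥(X ⊔ zpowers (z 1)) ≤ Nat.card V := by
    refine two_mul_card_le (sup_le inf_le_right (zpowers_le.2 (subset_closure ⟨1, rfl⟩))) fun hle => ?_
    have h3 : z 3 ∈ X ⊔ zpowers (z 1) := hle (subset_closure ⟨3, rfl⟩)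
    obtain ⟨x, hx, y, ⟨k, rfl⟩, e⟩ := mem_sup_comm hXz h3
    change z 3 = x * z 1 ^ k at e
    have hxc := hXc x hx
    have hk : z 1 ^ k = 1 ∨ z 1 ^ k = z 1 := NSix.CaseJ.Exact.sq_zpow (h.sq 1) k
    rcases hk with hk | hk
    · rw [hk, mul_one] at e
      rw [← e, ← mul_inv_eq_iff_eq_mul, d3] at hxc
      exact absurd (h.inj hxc) (by decide)
    · rw [hk] at e
      have h5 : x = z 3 * z 1 := by rw [e, mul_assoc, h.sq, mul_one]
      have h6 : c * x * c⁻¹ = z 4 * z 2 := by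
        rw [h5, ← d3, ← d1]; group
      rw [mul_inv_eq_iff_eq_mul.2 hxc, h5] at h6
      rcases h.pair (by decide) (by decide) h6 with h7 | h7 <;> exact absurd h7 (by decide)
  have hAV : IsElementaryAbelian 2 (A0 ⊔ V : Subgroup G) :=
    sup_elem (isElementaryAbelian_mono hA.1 inf_le_left) hVel hc
  have r4 := hA.2.2 _ hAV (sup_le (inf_le_left.trans hA.2.1) hVO)
  have r5 := card_sup_comm hc
  have hXp : 0 < Nat.card X := Nat.card_pos
  have hAp : 0 < Nat.card A0 := Nat.card_pos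
  have r6 : Nat.card A0 * Nat.card V ≤ (2 * Nat.card A0) * Nat.card X := by
    rw [← r5]
    exact Nat.mul_le_mul_right _ (r4.trans r1)
  have r7 : Nat.card A0 * (4 * Nat.card X) ≤ (2 * Nat.card A0) * Nat.card X := by
    refine le_trans (Nat.mul_le_mul_left _ ?_) r6
    omega
  nlinarith [Nat.mul_pos hAp hXp]

/-- **LEMMA MEM.** -/
theorem mem {A : Subgroup G} (hA : A ∈ AA (o2 (Dd z 1 2 3 4))) (hm : ¬ A ≤ centralizer (Set.range z))
    {a b c d : Fin 5} (hab : a ≠ b) (hac : a ≠ c) (hbc : b ≠ c) (had : a ≠ d) (hbd : b ≠ d) (hcd : c ≠ d) :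
    ∃ A' ∈ AA (o2 (Dd z a b c d)), Sh z a b A' := by
  obtain ⟨A', hA', hs⟩ := h.base hA hm
  obtain ⟨τ, t1, t2, t3, t4⟩ := perm_four (a := 1) (b := 2) (c := 3) (d := 4) (a' := a) (b' := b) (c' := c) (d' := d)
    (by decide) (by decide) (by decide) (by decide) (by decide) (by decide) hab hac hbc had hbd hcd
  obtain ⟨k, -, hk⟩ := h.full τ
  have h1 := h.cj_mem hk hA'
  have h2 := h.cj_sh hk hs
  rw [t1, t2, t3, t4] at h1
  rw [t1, t2] at h2
  exact ⟨_, h1, h2⟩

end Lt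

end Cfsg.Agent.Omega.NO3S.TwoA

end

section


/-!
# LightL, `n = 5`: the members of LEMMA (1'U) (helper433 #26100 (1) (i), (ii))

* `Mb z Q W i j F a` : `F ≤ Q` elementary abelian, `a` normalises `Q` and induces `(i j)` on `V`,
  `[C_W(F), a] ≤ ⟨z_i z_j⟩`, `|M : C_M(F)| ≤ |F : C_F(M)|` for `M ≤ W`;
* `Mb.exists_of` : from a member `A'` of `A(O')` acting as `⟨(i j)⟩` on `V`, `V ≤ W ≤ O'`.
-/

set_option autoImplicit false
set_option linter.unusedSectionVars false

namespace Cfsg.Agent.Omega.NO3S.TwoA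

open Subgroup Cfsg Cfsg.Agent.PLocal.ThompsonJ Cfsg.Agent.ZN Cfsg.Agent.ZN.ChoiceBase
open Cfsg.Agent.ZN.ChoiceSit Cfsg.Agent.PLocal.ElemAbSup
open Cfsg.Agent.Omega.SQ1.Bau (mem_AA_of_comm elem_comm elem_sq mem_sup_comm card_sup_comm)
open Cfsg.Agent.Omega.NSix.CaseJ.Exact (two_mul_card_le card_le_two sup_elem)

universe u

variable {G : Type u} [Group G]

/-- the situation of (i), (ii) -/
structure Mb (z : Fin 5 → G) (Q W : Subgroup G) (i j : Fin 5) (F : Subgroup G) (a : G) : Prop where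
  FQ : F ≤ Q
  el : IsElementaryAbelian 2 F
  aQ : ∀ q ∈ Q, a * q * a⁻¹ ∈ Q
  act : ∀ k, a * z k * a⁻¹ = z (Equiv.swap i j k)
  sep : ∀ u ∈ W, (∀ b ∈ F, b * u = u * b) → a * u * a⁻¹ = u ∨ a * u * a⁻¹ = u * (z i * z j)
  off : ∀ M : Subgroup G, M ≤ W → (centralizer (F : Set G)).relIndex M ≤ (centralizer (M : Set G)).relIndex F

theorem card_mul_relIndex [Finite G] (M K : Subgroup G) : Nat.card M = K.relIndex M * Nat.card ↥(M ⊓ K) := by
  have h1 := Subgroup.card_mul_index (K.subgroupOf M)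
  have h2 : Nat.card (K.subgroupOf M) = Nat.card ↥(M ⊓ K) := by
    rw [← inf_subgroupOf_right, inf_comm]
    exact Nat.card_congr (subgroupOfEquivOfLe inf_le_left).toEquiv
  rw [h2] at h1
  rw [← h1, mul_comm]
  rfl

/-- `|M : C_M(F)| ≤ |F : C_F(M)|` in terms of orders. -/
theorem relIndex_le_of [Finite G] {M F : Subgroup G}
    (h : Nat.card M * Nat.card ↥(F ⊓ centralizer (M : Set G)) ≤ Nat.card F * Nat.card ↥(M ⊓ centralizer (F : Set G))) :
    (centralizer (F : Set G)).relIndex M ≤ (centralizer (M : Set G)).relIndex F := by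
  rw [card_mul_relIndex M (centralizer (F : Set G)), card_mul_relIndex F (centralizer (M : Set G))] at h
  have h1 : 0 < Nat.card ↥(F ⊓ centralizer (M : Set G)) := Nat.card_pos
  have h2 : 0 < Nat.card ↥(M ⊓ centralizer (F : Set G)) := Nat.card_pos
  refine Nat.le_of_mul_le_mul_right ?_ (Nat.mul_pos h1 h2)
  calc _ = (centralizer (F : Set G)).relIndex M * Nat.card ↥(M ⊓ centralizer (F : Set G)) *
        Nat.card ↥(F ⊓ centralizer (M : Set G)) := by ring
    _ ≤ _ := h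
    _ = _ := by ring

/-- `[u, C_A(V)] = 1` etc. for `M V` -/
theorem Of.off [Finite G] {V O' A : Subgroup G} {a p : G} (h : Of V O' A a p) {W M : Subgroup G}
    (hW : IsElementaryAbelian 2 W) (hVW : V ≤ W) (hWO : W ≤ O') (hM : M ≤ W) :
    (centralizer ((A ⊓ centralizer (V : Set G) : Subgroup G) : Set G)).relIndex M ≤
      (centralizer (M : Set G)).relIndex (A ⊓ centralizer (V : Set G)) := by
  apply relIndex_le_of
  have Wc := elem_comm hW
  have h0 := h.A0_comm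
  set F := A ⊓ centralizer (V : Set G) with hF
  have hXW : M ⊔ V ≤ W := sup_le hM hVW
  have h1 := h.count0 (isElementaryAbelian_mono hW hXW) le_sup_right (hXW.trans hWO)
  rw [← hF] at h1
  have hVF : V ≤ centralizer (F : Set G) := fun v hv => mem_centralizer_iff.2 fun b hb => h0 b hb v hv
  have e1 : F ⊓ centralizer ((M ⊔ V : Subgroup G) : Set G) = F ⊓ centralizer (M : Set G) := by
    apply le_antisymm
    · exact inf_le_inf_left _ (centralizer_le (SetLike.coe_subset_coe.2 le_sup_left))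
    · rintro b ⟨hb, hbM⟩
      refine ⟨hb, ?_⟩
      have h2 : M ⊔ V ≤ centralizer ({b} : Set G) := sup_le
        (fun m hm => mem_centralizer_singleton_iff.2 (mem_centralizer_iff.1 hbM m hm))
        (fun v hv => mem_centralizer_singleton_iff.2 (h0 b hb v hv).symm)
      exact mem_centralizer_iff.2 fun y hy => mem_centralizer_singleton_iff.1 (h2 hy)
  have e2 : (M ⊔ V) ⊓ centralizer (F : Set G) = (M ⊓ centralizer (F : Set G)) ⊔ V := by
    apply le_antisymm
    · rintro y ⟨hy, hyF⟩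
      obtain ⟨m, hm, v, hv, rfl⟩ := mem_sup_comm (fun x hx y hy => Wc x (hM hx) y (hVW hy)) hy
      refine mul_mem_sup ⟨hm, ?_⟩ hv
      have hyF' : m * v ∈ centralizer (F : Set G) := hyF
      have h2 := (centralizer (F : Set G)).mul_mem hyF' ((centralizer (F : Set G)).inv_mem (hVF hv))
      rwa [mul_inv_cancel_right] at h2
    · exact sup_le (inf_le_inf_right _ le_sup_left) (le_inf le_sup_right hVF)
  rw [e1, e2] at h1
  have c1 := card_sup_comm (A := M) (B := V) fun x hx y hy => Wc x (hM hx) y (hVW hy)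
  have c2 := card_sup_comm (A := M ⊓ centralizer (F : Set G)) (B := V) fun x hx y hy => Wc x (hM hx.1) y (hVW hy)
  have e3 : M ⊓ centralizer (F : Set G) ⊓ V = M ⊓ V := by
    apply le_antisymm
    · exact fun x hx => ⟨hx.1.1, hx.2⟩
    · exact fun x hx => ⟨⟨hx.1, hVF hx.2⟩, hx.2⟩
  rw [e3] at c2
  have hp : 0 < Nat.card V := Nat.card_pos
  have hq : 0 < Nat.card ↥(M ⊓ V) := Nat.card_pos
  refine Nat.le_of_mul_le_mul_right ?_ hp
  calc Nat.card M * Nat.card ↥(F ⊓ centralizer (M : Set G)) * Nat.card V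
      = (Nat.card ↥(M ⊔ V) * Nat.card ↥(F ⊓ centralizer (M : Set G))) * Nat.card ↥(M ⊓ V) := by
        rw [mul_right_comm, ← c1]; ring
    _ ≤ (Nat.card F * Nat.card ↥((M ⊓ centralizer (F : Set G)) ⊔ V)) * Nat.card ↥(M ⊓ V) :=
        Nat.mul_le_mul_right _ h1
    _ = Nat.card F * Nat.card ↥(M ⊓ centralizer (F : Set G)) * Nat.card V := by
        rw [mul_assoc, c2]; ring

/-- **(1) (i), (ii).** -/
theorem Mb.exists_of [Finite G] {z : Fin 5 → G} (inj : Function.Injective z) (sq : ∀ a, z a * z a = 1)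
    (comm : ∀ a b, z a * z b = z b * z a) {i j : Fin 5} (hij : i ≠ j)
    {V O' Q W A : Subgroup G} (hV : V = closure (Set.range z)) (hA : A ∈ AA O') (hs : Sh z i j A)
    (hW : IsElementaryAbelian 2 W) (hVW : V ≤ W) (hWO : W ≤ O') (hOQ : O' ⊓ centralizer (V : Set G) ≤ Q)
    (hOn : O' ≤ normalizer (Q : Set G)) : ∃ F a, Mb z Q W i j F a := by
  obtain ⟨a, haA, hact⟩ := hs.2
  have hVel : IsElementaryAbelian 2 V := isElementaryAbelian_mono hW hVW
  have zV : ∀ k, z k ∈ V := fun k => hV ▸ subset_closure ⟨k, rfl⟩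
  have key : ∀ b : G, (∀ k, b * z k = z k * b) → b ∈ centralizer (V : Set G) := by
    intro b hb
    have h1 : V ≤ centralizer ({b} : Set G) := by
      rw [hV, closure_le]
      rintro _ ⟨k, rfl⟩
      exact mem_centralizer_singleton_iff.2 (hb k).symm
    exact mem_centralizer_iff.2 fun v hv => mem_centralizer_singleton_iff.1 (h1 hv)
  have hp2 : z i * z j * (z i * z j) = 1 := by
    have := elem_sq hVel _ (mul_mem (zV i) (zV j))
    rwa [pow_two] at this
  have cV : ∀ v ∈ V, a * v * a⁻¹ = v ∨ a * v * a⁻¹ = v * (z i * z j) := by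
    let K : Subgroup G :=
      { carrier := {v | v ∈ V ∧ (a * v * a⁻¹ = v ∨ a * v * a⁻¹ = v * (z i * z j))}
        one_mem' := ⟨one_mem _, Or.inl (by group)⟩
        mul_mem' := by
          rintro v w ⟨hv, h1⟩ ⟨hw, h2⟩
          refine ⟨mul_mem hv hw, ?_⟩
          have e1 : a * (v * w) * a⁻¹ = (a * v * a⁻¹) * (a * w * a⁻¹) := by group
          have e2 : (z i * z j) * w = w * (z i * z j) := elem_comm hVel _ (mul_mem (zV i) (zV j)) w hw
          rw [e1]
          rcases h1 with h1 | h1 <;> rcases h2 with h2 | h2 <;> rw [h1, h2]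
          · left; rfl
          · right; rw [mul_assoc]
          · right
            rw [mul_assoc, e2, ← mul_assoc]
          · left
            calc v * (z i * z j) * (w * (z i * z j)) = v * ((z i * z j) * w) * (z i * z j) := by group
              _ = v * w * ((z i * z j) * (z i * z j)) := by rw [e2]; group
              _ = v * w := by rw [hp2, mul_one]
        inv_mem' := by
          rintro v ⟨hv, h1⟩
          have hvi : v⁻¹ = v := by
            have := elem_sq hVel _ hv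
            rw [pow_two] at this
            exact inv_eq_of_mul_eq_one_left this
          exact ⟨inv_mem hv, by rw [hvi]; exact h1⟩ }
    have hK : V ≤ K := by
      rw [hV, closure_le]
      rintro _ ⟨k, rfl⟩
      refine ⟨zV k, ?_⟩
      rw [hact]
      by_cases hk : k = i
      · right
        rw [hk, Equiv.swap_apply_left, ← mul_assoc, sq, one_mul]
      · by_cases hk' : k = j
        · right
          rw [hk', Equiv.swap_apply_right, comm i j, ← mul_assoc, sq, one_mul]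
        · left
          rw [Equiv.swap_apply_of_ne_of_ne hk hk']
    exact fun v hv => (hK hv).2
  have hof : Of V O' A a (z i * z j) :=
    { elem := hA.1
      le := hA.2.1
      max := hA.2.2
      Vel := hVel
      VO := hVW.trans hWO
      aA := haA
      nV := ⟨z i, zV i, fun e => by
        have h1 := hact i
        rw [e, mul_inv_cancel_right, Equiv.swap_apply_left] at h1
        exact hij (inj h1)⟩
      pV := mul_mem (zV i) (zV j)
      cV := cV
      two := fun b hb hbn => by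
        have hb' : ∀ k, b * z k * b⁻¹ = z (Equiv.swap i j k) := by
          rcases hs.1 b hb with h1 | h1
          · exact absurd (key b h1) hbn
          · exact h1
        refine key _ fun k => ?_
        have e1 := hb' k
        have e2 := hact k
        have e3 : b * z k * b⁻¹ = a * z k * a⁻¹ := e1.trans e2.symm
        calc a⁻¹ * b * z k = a⁻¹ * (b * z k * b⁻¹) * b := by group
          _ = a⁻¹ * (a * z k * a⁻¹) * b := by rw [e3]
          _ = z k * (a⁻¹ * b) := by group }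
  refine ⟨A ⊓ centralizer (V : Set G), a, ?_, isElementaryAbelian_mono hA.1 inf_le_left, fun q hq =>
    (mem_normalizer_iff.1 (hOn (hA.2.1 haA)) q).1 hq, hact, fun u hu hc => hof.act hW hVW hWO hu hc, fun M hM =>
    hof.off hW hVW hWO hM⟩
  exact (inf_le_inf_right _ hA.2.1).trans hOQ

end Cfsg.Agent.Omega.NO3S.TwoA

end
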